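import Mathlib.AlgebraicGeometry.Morphisms.QuasiSeparated
import Mathlib.AlgebraicGeometry.Morphisms.UnderlyingMap

set_option autoImplicit false
universe u

open CategoryTheory CategoryTheory.Limits AlgebraicGeometry

namespace Groth.Agent.Sga3.H771.QcDesc

/-- Quasi-compactness descends along a surjection of the source. -/
theorem quasiCompact_of_surjective_comp {X Y S : Scheme.{u}} (p : X ⟶ Y) (q : Y ⟶ S) [Surjective p]
    [QuasiCompact (p ≫ q)] : QuasiCompact q := by
  refine ⟨fun U hU hU' => ?_⟩
  have h := (p ≫ q).isCompact_preimage (U := ⟨U, hU⟩) hU'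
  have h2 : (q : Y → S) ⁻¹' U = (p : X → Y) '' ((p ≫ q : X ⟶ S) ⁻¹' U) := by
    ext y
    constructor
    · intro hy
      obtain ⟨x, rfl⟩ := p.surjective y
      exact ⟨x, by simpa using hy, rfl⟩
    · rintro ⟨x, hx, rfl⟩
      simpa using hx
  rw [h2]
  exact h.image p.continuous

/-- Quasi-separatedness descends along a quasi-compact surjection of the source. -/
theorem quasiSeparated_of_surjective_comp {X Y S : Scheme.{u}} (p : X ⟶ Y) (q : Y ⟶ S)
    [Surjective p] [QuasiCompact p] [QuasiSeparated (p ≫ q)] : QuasiSeparated q := by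
  refine ⟨?_⟩
  have h1 : QuasiCompact (pullback.map (p ≫ q) (p ≫ q) q q p p (𝟙 S) (by simp) (by simp)) :=
    MorphismProperty.pullbackMap (P := @QuasiCompact) ‹_› ‹_› rfl rfl
  have e : p ≫ pullback.diagonal q =
      pullback.diagonal (p ≫ q) ≫ pullback.map (p ≫ q) (p ≫ q) q q p p (𝟙 S) (by simp) (by simp) := by
    apply pullback.hom_ext
    · rw [Category.assoc, Category.assoc, pullback.diagonal_fst, pullback.lift_fst,
        ← Category.assoc, pullback.diagonal_fst]
      simp
    · rw [Category.assoc, Category.assoc, pullback.diagonal_snd, pullback.lift_snd,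
        ← Category.assoc, pullback.diagonal_snd]
      simp
  have : QuasiCompact (p ≫ pullback.diagonal q) := by
    rw [e]
    infer_instance
  exact quasiCompact_of_surjective_comp p (pullback.diagonal q)

end Groth.Agent.Sga3.H771.QcDesc
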